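import Groth.Agent.H9Hens.Glue
import Mathlib.RingTheory.AdicCompletion.Completeness
import Mathlib.RingTheory.AdicCompletion.Algebra
import Mathlib.RingTheory.Flat.Basic

/-! Gluing a module over the completion with one over the punctured spectrum. -/

set_option autoImplicit false
universe u

open TensorProduct

namespace Groth.Agent.H18Pur.Complete

/-- The completion is unchanged modulo the powers of the ideal. -/
theorem cong_completion (A : Type u) [CommRing A] (I : Ideal A) (hI : I.FG) (n : ℕ) :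
    H9Hens.Glue.Cong (AdicCompletion I A) (I ^ n) := by
  have hk : ((I ^ n).map (algebraMap A (AdicCompletion I A))).restrictScalars A =
      LinearMap.ker (AdicCompletion.eval I A n) := by
    rw [← Ideal.smul_top_eq_map]
    exact AdicCompletion.pow_smul_top_eq_ker_eval hI
  constructor
  · intro x
    obtain ⟨r, hr⟩ := Submodule.Quotient.mk_surjective _ (AdicCompletion.eval I A n x)
    refine ⟨r, ?_⟩
    rw [← Submodule.restrictScalars_mem A, hk, LinearMap.mem_ker, map_sub, ← hr, sub_eq_zero]
    rfl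
  · intro r hr
    rw [← Submodule.restrictScalars_mem A, hk, LinearMap.mem_ker] at hr
    have h2 : r ∈ (I ^ n • ⊤ : Submodule A A) := (Submodule.Quotient.mk_eq_zero _).1 hr
    simpa using h2

variable {R R' M N P : Type u} [CommRing R] [CommRing R'] [Algebra R R']
  [AddCommGroup M] [Module R M] [Module R' M] [IsScalarTower R R' M] [AddCommGroup N] [Module R N]
  [AddCommGroup P] [Module R P] [Module R' P] [IsScalarTower R R' P]

/-- The fibre product of a module over `R'` and one over `R` over a common base change. -/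
def fib (φ : M →ₗ[R'] P) (ι : N →ₗ[R] P) : Submodule R (M × N) :=
  LinearMap.ker ((φ.restrictScalars R) ∘ₗ LinearMap.fst R M N - ι ∘ₗ LinearMap.snd R M N)

theorem mem_fib {φ : M →ₗ[R'] P} {ι : N →ₗ[R] P} {x : M × N} : x ∈ fib φ ι ↔ φ x.1 = ι x.2 := by
  simp [fib, sub_eq_zero]

/-- The fibre product base changes to the module over `R'` when the cokernel and kernel are torsion. -/
theorem isBaseChange_fib [Module.Flat R R'] (φ : M →ₗ[R'] P) (ι : N →ₗ[R] P) (hι : IsBaseChange R' ι)
    (J : ℕ → Ideal R) (hJ : Antitone J) (hC : ∀ n, H9Hens.Glue.Cong R' (J n))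
    (hker : ∀ m, φ m = 0 → ∃ n, ∀ j ∈ J n, j • m = 0)
    (hcoker : ∀ p, ∃ n, ∀ j ∈ J n, j • p ∈ LinearMap.range φ) :
    IsBaseChange R' ((LinearMap.fst R M N) ∘ₗ (fib φ ι).subtype) := by
  let π₁ : fib φ ι →ₗ[R] M := LinearMap.fst R M N ∘ₗ (fib φ ι).subtype
  let π₂ : fib φ ι →ₗ[R] N := LinearMap.snd R M N ∘ₗ (fib φ ι).subtype
  let μ : R' ⊗[R] fib φ ι →ₗ[R'] M := π₁.liftBaseChange R'
  let e : R' ⊗[R] N ≃ₗ[R'] P := hι.equiv
  have hcomm : ∀ z, φ (μ z) = e (π₂.lTensor R' z) := by
    intro z
    induction z with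
    | zero => simp
    | tmul r b =>
      have hb : φ (b : M × N).1 = ι (b : M × N).2 := mem_fib.1 b.2
      simp [μ, e, π₁, π₂, IsBaseChange.equiv_tmul, hb]
    | add a b ha hb => simp [ha, hb]
  suffices hμ : Function.Bijective μ by
    refine IsBaseChange.of_equiv (LinearEquiv.ofBijective μ hμ) fun b => ?_
    show μ (1 ⊗ₜ b) = _
    simp [μ, π₁]
  constructor
  · rw [injective_iff_map_eq_zero]
    intro z hz
    have h0 : π₂.lTensor R' z = 0 := e.injective (by rw [← hcomm, hz, map_zero, map_zero])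
    have he : Function.Exact (LinearMap.ker π₂).subtype π₂ := LinearMap.exact_subtype_ker_map π₂
    have hex : Function.Exact ((LinearMap.ker π₂).subtype.lTensor R') (π₂.lTensor R') := by
      exact Module.Flat.lTensor_exact R' (N := LinearMap.ker π₂) (N' := fib φ ι) (N'' := N) he
    obtain ⟨w, rfl⟩ := (hex z).1 h0
    have hb := H9Hens.Glue.bijective_mk_of_killed (M := LinearMap.ker π₂) J hJ hC (fun k => by
      have h2 : (k.1.1).2 = 0 := k.2
      have h1 : φ (k.1.1).1 = 0 := by rw [mem_fib.1 k.1.2, h2, map_zero]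
      obtain ⟨n, hn⟩ := hker _ h1
      refine ⟨n, fun j hj => Subtype.ext (Subtype.ext (Prod.ext (hn j hj) ?_))⟩
      show j • (k.1.1).2 = 0
      rw [h2, smul_zero])
    obtain ⟨k, rfl⟩ := hb.2 w
    have h2 : (k.1.1).2 = 0 := k.2
    have hz' : (k.1.1).1 = 0 := by simpa [μ, π₁] using hz
    have : k = 0 := Subtype.ext (Subtype.ext (Prod.ext hz' h2))
    simp [this]
  · intro m
    let ψ : N →ₗ[R] P ⧸ (LinearMap.range φ).restrictScalars R :=
      ((LinearMap.range φ).restrictScalars R).mkQ ∘ₗ ι
    have hb := H9Hens.Glue.bijective_mk_of_killed (M := P ⧸ (LinearMap.range φ).restrictScalars R) J hJ hC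
      (fun c => by
        obtain ⟨p, rfl⟩ := Submodule.mkQ_surjective _ c
        obtain ⟨n, hn⟩ := hcoker p
        exact ⟨n, fun j hj => by
          rw [← map_smul]; exact (Submodule.Quotient.mk_eq_zero _).2 (hn j hj)⟩)
    -- the composite with multiplication is the projection
    let C := P ⧸ LinearMap.range φ
    let q : P ⧸ (LinearMap.range φ).restrictScalars R →ₗ[R] C :=
      Submodule.liftQ _ ((LinearMap.range φ).mkQ.restrictScalars R) (fun x hx =>
        (Submodule.Quotient.mk_eq_zero (LinearMap.range φ)).2 hx)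
    have hq : Function.Injective q := by
      rw [injective_iff_map_eq_zero]
      intro c hc
      obtain ⟨p, rfl⟩ := Submodule.mkQ_surjective _ c
      exact (Submodule.Quotient.mk_eq_zero _).2 ((Submodule.Quotient.mk_eq_zero (LinearMap.range φ)).1 hc)
    have hmul : ∀ w, q.liftBaseChange R' (ψ.lTensor R' w) = (LinearMap.range φ).mkQ (e w) := by
      intro w
      induction w with
      | zero => simp
      | tmul r x => simp [ψ, q, e, IsBaseChange.equiv_tmul]
      | add a b ha hb => simp [ha, hb]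
    obtain ⟨w, hw⟩ := e.surjective (φ m)
    have h0 : ψ.lTensor R' w = 0 := by
      obtain ⟨c, hc⟩ := hb.2 (ψ.lTensor R' w)
      have : q c = 0 := by
        have h := hmul w
        rw [hw, ← hc] at h
        simp at h
        exact h.trans ((Submodule.Quotient.mk_eq_zero _).2 ⟨m, rfl⟩)
      rw [← hc, hq (this.trans (map_zero q).symm)]
      simp
    have hex : Function.Exact ((LinearMap.ker ψ).subtype.lTensor R') (ψ.lTensor R') :=
      Module.Flat.lTensor_exact R' (LinearMap.exact_subtype_ker_map ψ)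
    obtain ⟨v, hv⟩ := (hex w).1 h0
    have hrange : ∀ n : LinearMap.ker ψ, ∃ b, π₂ b = n.1 := fun n => by
      obtain ⟨b, hb⟩ := (Submodule.Quotient.mk_eq_zero _).1 n.2
      exact ⟨⟨(b, n.1), mem_fib.2 hb⟩, rfl⟩
    have hv' : ∃ z, π₂.lTensor R' z = w := by
      rw [← hv]
      clear hv
      induction v with
      | zero => exact ⟨0, by simp⟩
      | tmul r n => obtain ⟨b, hb⟩ := hrange n; exact ⟨r ⊗ₜ b, by simp [hb]⟩
      | add a b ha hb =>
        obtain ⟨za, ha⟩ := ha; obtain ⟨zb, hb⟩ := hb
        exact ⟨za + zb, by simp [ha, hb]⟩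
    obtain ⟨z, hz⟩ := hv'
    have hk : φ (m - μ z) = 0 := by rw [map_sub, hcomm, hz, hw, sub_self]
    refine ⟨z + 1 ⊗ₜ ⟨(m - μ z, 0), mem_fib.2 (by simpa using hk)⟩, ?_⟩
    simp [μ, π₁]

end Groth.Agent.H18Pur.Complete
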